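import Groth.Agent.Lib.ZarCoh.PushKilled
import Groth.Agent.Lib.PushClosed.Torsion
import Groth.Agent.Lib.QCoh.Localizing
import Groth.Agent.Lib.QCoh.Pullback
import Groth.Agent.Lib.Lim.IdealExt
import Groth.Agent.Lib.Modules.Support

/-!
# Modules supported on `V(J)` as unions of their `J^m`-torsion
-/

set_option autoImplicit false
set_option linter.style.haveILetI false

universe u

open CategoryTheory CategoryTheory.Limits AlgebraicGeometry Opposite TopologicalSpace

namespace Groth.Agent.Lib.AffStrat36.Torsion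

open Groth.Agent.Lib Groth.Agent.Lib.QCoh.Localizing Groth.Agent.Lib.Lim.IdealExt

noncomputable section

variable {V : Scheme.{u}}

lemma isFG_pow {J : V.IdealSheafData} (hJ : IsFG J) (m : ℕ) : IsFG (J ^ m) := fun U => by
  rw [Scheme.IdealSheafData.ideal_pow, Pi.pow_apply]
  exact Submodule.FG.pow (hJ U) m

/-- A module with its `K`-torsion: a quasi-coherent submodule supported on the subscheme of `K`. -/
theorem exists_torsion (K : V.IdealSheafData) (hK : IsFG K) (M : V.Modules) [M.IsQuasicoherent] :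
    ∃ (N : K.subscheme.Modules) (e : (Scheme.Modules.pushforward K.subschemeι).obj N ⟶ M),
      N.IsQuasicoherent ∧ Mono e ∧
      ∀ (U : V.affineOpens) (s : Γ(M, U.1)), (∃ y, e.app U.1 y = s) ↔ ∀ r ∈ K.ideal U, r • s = 0 := by
  let i := K.subschemeι
  haveI := PushClosed.Basic.pushforward_isLeftAdjoint i
  let adj : Scheme.Modules.pushforward i ⊣ (Scheme.Modules.pushforward i).rightAdjoint :=
    Adjunction.ofIsLeftAdjoint (Scheme.Modules.pushforward i)
  let G := (Scheme.Modules.pushforward i).obj ((Scheme.Modules.pushforward i).rightAdjoint.obj M)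
  let c : G ⟶ M := adj.counit.app M
  haveI hmono : Mono c := PushClosed.Unit.counit_mono i adj M
  have hker : i.ker = K := K.ker_subschemeι
  have hrange : ∀ (U : V.affineOpens) (s : Γ(M, U.1)),
      (∃ y, c.app U.1 y = s) ↔ ∀ r ∈ K.ideal U, r • s = 0 := fun U s => by
    rw [← hker]
    exact PushClosed.Torsion.range_counit i adj M U s
  have hinj : ∀ U : V.Opens, Function.Injective (c.app U) := PushClosed.Torsion.injective_app_of_mono c
  haveI hG : G.IsQuasicoherent := by
    refine isQCoh_iff_forall_affine.2 fun U hU f => ⟨fun t => ?_, fun t ht => ?_⟩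
    · have hle : V.basicOpen f ≤ U := V.basicOpen_le f
      obtain ⟨n, s, hs⟩ := (localizes_of_isAffineOpen M hU f).ext' (c.app _ t)
      obtain ⟨S, hS⟩ := hK ⟨U, hU⟩
      have hzero : ∀ r ∈ S, ∃ N : ℕ, f ^ N • (r • s) = 0 := fun r hr => by
        refine (localizes_of_isAffineOpen M hU f).sep _ ?_
        rw [res_smul, hs]
        have hrK : resR hle r ∈ K.ideal ⟨V.basicOpen f, hU.basicOpen f⟩ :=
          K.ideal_le_comap_ideal (U := ⟨_, hU.basicOpen f⟩) (V := ⟨U, hU⟩) hle
            (hS ▸ Submodule.subset_span hr)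
        rw [smul_comm, (hrange ⟨_, hU.basicOpen f⟩ (c.app _ t)).1 ⟨t, rfl⟩ _ hrK, smul_zero]
      choose N hN using hzero
      let N₀ := S.attach.sup fun r => N r.1 r.2
      have hkill : ∀ r ∈ K.ideal ⟨U, hU⟩, r • (f ^ N₀ • s) = 0 := by
        intro r hr
        rw [← hS] at hr
        induction hr using Submodule.span_induction with
        | mem r hr =>
          obtain ⟨k, hk⟩ := Nat.exists_eq_add_of_le
            (Finset.le_sup (f := fun r => N r.1 r.2) (Finset.mem_attach S ⟨r, hr⟩) : N r hr ≤ N₀)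
          rw [smul_comm, hk, add_comm, pow_add, mul_smul, hN r hr, smul_zero]
        | zero => rw [zero_smul]
        | add a b _ _ ha hb => rw [add_smul, ha, hb, add_zero]
        | smul a b _ hb => rw [smul_eq_mul, mul_smul, hb, smul_zero]
      obtain ⟨y, hy⟩ := (hrange ⟨U, hU⟩ _).2 hkill
      refine ⟨N₀ + n, y, hinj _ ?_⟩
      rw [← res_app, hy, res_smul, hs, Scheme.Modules.Hom.app_smul, map_pow, pow_add, mul_smul]
    · obtain ⟨n, hn⟩ := (localizes_of_isAffineOpen M hU f).sep (c.app U t)
        (by rw [res_app, ht, map_zero])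
      exact ⟨n, hinj U (by rw [Scheme.Modules.Hom.app_smul, hn, map_zero])⟩
  have hkilled : _root_.ClSub.KilledByIdeal i.ker G := fun U a ha t => by
    rw [hker] at ha
    exact hinj U.1 (((Scheme.Modules.Hom.app_smul c a (show Γ(G, U.1) from t)).trans
      ((hrange U (c.app U.1 (show Γ(G, U.1) from t))).1 ⟨_, rfl⟩ a ha)).trans (map_zero _).symm)
  haveI := ZarCoh.PushKilled.isIso_unit i G hkilled
  let η := asIso ((Scheme.Modules.pullbackPushforwardAdjunction i).unit.app G)
  refine ⟨(Scheme.Modules.pullback i).obj G, η.inv ≫ c, QCoh.Pullback.isQCoh_pullback i G,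
    mono_comp _ _, fun U s => (Iff.trans ⟨?_, ?_⟩ (hrange U s))⟩
  · rintro ⟨y, rfl⟩
    exact ⟨η.inv.app U.1 y, rfl⟩
  · rintro ⟨y, rfl⟩
    refine ⟨η.hom.app U.1 y, ?_⟩
    show c.app U.1 (η.inv.app U.1 (η.hom.app U.1 y)) = _
    congr 1
    exact congr($(η.hom_inv_id).app U.1 y)

/-- A section supported in `V(J)` is killed by a power of `J`. -/
theorem exists_pow_smul (J : V.IdealSheafData) (hJ : IsFG J) (M : V.Modules) [M.IsQuasicoherent]
    (hM : CohB1.support M ⊆ (J.support : Set V)) (U : V.affineOpens) (s : Γ(M, U.1)) :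
    ∃ m : ℕ, ∀ r ∈ (J ^ m).ideal U, r • s = 0 := by
  let A := LinearMap.ker (LinearMap.toSpanSingleton Γ(V, U.1) Γ(M, U.1) s)
  have hrad : J.ideal U ≤ Ideal.radical A := by
    intro r hr
    have h0 : res M (V.basicOpen_le r) s = 0 := by
      refine Modules.Support.eq_zero_of_germ_eq_zero _ fun x hx hxs => absurd (hM hxs) ?_
      intro hxJ
      rw [SetLike.mem_coe, Scheme.IdealSheafData.mem_support_iff_of_mem (V.basicOpen_le r hx),
        Scheme.mem_zeroLocus_iff] at hxJ
      exact hxJ r hr hx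
    obtain ⟨n, hn⟩ := (localizes_of_isAffineOpen M U.2 r).sep s h0
    exact ⟨n, hn⟩
  obtain ⟨m, hm⟩ := Ideal.exists_pow_le_of_le_radical_of_fg hrad (hJ U)
  refine ⟨m, fun r hr => ?_⟩
  rw [Scheme.IdealSheafData.ideal_pow, Pi.pow_apply] at hr
  exact hm hr

end

end Groth.Agent.Lib.AffStrat36.Torsion
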