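import Groth.Agent.Lib.AffStrat36.Colim
import Groth.Agent.Lib.AffStrat36.Torsion
import Groth.Agent.Lib.Lim.Thickening
import Groth.Agent.Lib.ZarCoh.Morph
import Groth.Agent.Lib.Curves.LES
import Groth.Agent.Lib.QCoh.Closure
import Groth.Agent.Lib.QCoh.Pushforward
import Groth.Prelude.Def_MoreMor

/-!
# Cohomology vanishes above the affine stratification number
-/

set_option autoImplicit false
set_option linter.style.haveILetI false

universe u

open CategoryTheory CategoryTheory.Limits AlgebraicGeometry TopologicalSpace Opposite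

namespace Groth.Agent.Lib.AffStrat36.Main

open Groth.Agent.Lib Groth.Agent.Lib.Lim.IdealExt

noncomputable section

variable {X V Z : Scheme.{u}}

/-- A finitely generated ideal sheaf cutting out a closed set with quasi-compact complement. -/
theorem exists_fg_support [CompactSpace V] [QuasiSeparatedSpace V] (S : Closeds V) (hS : IsCompact (S : Set V)ᶜ) :
    ∃ J : V.IdealSheafData, IsFG J ∧ (J.support : Set V) = S := by
  have hI : ((Scheme.IdealSheafData.vanishingIdeal S).support : Set V) = S :=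
    Scheme.IdealSheafData.coe_support_vanishingIdeal S
  have hsup : ((Scheme.IdealSheafData.vanishingIdeal S).support : Set V) =
      ⋂ J : FGSub (Scheme.IdealSheafData.vanishingIdeal S), (J.1.support : Set V) := by
    conv_lhs => rw [eq_iSup_fgSub (Scheme.IdealSheafData.vanishingIdeal S),
      Scheme.IdealSheafData.support_iSup, Closeds.coe_iInf]
  obtain ⟨J, hJ⟩ := hS.elim_directed_cover (fun J : FGSub (Scheme.IdealSheafData.vanishingIdeal S) =>
      (J.1.support : Set V)ᶜ) (fun J => J.1.support.isClosed.isOpen_compl)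
    (by rw [← Set.compl_iInter, ← hsup, hI])
    (fun a b => by
      obtain ⟨c, hac, hbc⟩ := exists_ge_ge a b
      exact ⟨c, Set.compl_subset_compl.2 (Scheme.IdealSheafData.support_antitone hac),
        Set.compl_subset_compl.2 (Scheme.IdealSheafData.support_antitone hbc)⟩)
  refine ⟨J.1, J.2.2, Set.Subset.antisymm (Set.compl_subset_compl.1 hJ) ?_⟩
  have h := Scheme.IdealSheafData.support_antitone J.2.1
  exact hI.symm.subset.trans h

/-- A power of `J` lies in an ideal with the same support. -/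
theorem exists_pow_le [CompactSpace V] {J I : V.IdealSheafData} (hJ : IsFG J)
    (h : (I.support : Set V) ⊆ J.support) :
    ∃ N : ℕ, ∀ U : V.affineOpens, ∀ m, N ≤ m → (J ^ m).ideal U ≤ I.ideal U := by
  have hrad : J ≤ I.radical := by
    rw [← Scheme.IdealSheafData.vanishingIdeal_support]
    exact Scheme.IdealSheafData.le_support_iff_le_vanishingIdeal.1 h
  have hpow : ∀ U : V.affineOpens, ∃ n, J.ideal U ^ n ≤ I.ideal U := fun U =>
    Ideal.exists_pow_le_of_le_radical_of_fg (hrad U) (hJ U)
  choose n hn using hpow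
  obtain ⟨s, hs, hcov⟩ := isCompact_and_isOpen_iff_finite_and_eq_biUnion_affineOpens.mp
    (⟨isCompact_univ, isOpen_univ⟩ : IsCompact (Set.univ : Set V) ∧ IsOpen (Set.univ : Set V))
  let N := hs.toFinset.sup n
  have hle : J ^ N ≤ I := by
    refine Scheme.IdealSheafData.le_of_iSup_eq_top (fun U : s => U.1) ?_ fun U => ?_
    · exact top_le_iff.mp fun x _ => by
        obtain ⟨U, hU, hxU⟩ := Set.mem_iUnion₂.mp (hcov ▸ Set.mem_univ x)
        exact Opens.mem_iSup.mpr ⟨⟨U, hU⟩, hxU⟩
    · rw [Scheme.IdealSheafData.ideal_pow, Pi.pow_apply]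
      exact (Ideal.pow_le_pow_right (Finset.le_sup (hs.mem_toFinset.2 U.2))).trans (hn U.1)
  refine ⟨N, fun U m hm => le_trans ?_ (hle U)⟩
  rw [Scheme.IdealSheafData.ideal_pow, Scheme.IdealSheafData.ideal_pow, Pi.pow_apply, Pi.pow_apply]
  exact Ideal.pow_le_pow_right hm

/-- A thickening of an affine piece is affine and affine over `X`. -/
theorem affine_thickening (j : V ⟶ X) (ι : Z ⟶ V) [IsClosedImmersion ι] [IsAffine Z]
    [IsAffineHom (ι ≫ j)] (K : V.IdealSheafData) (hK : K ≤ ι.ker)
    (hsupp : (K.support : Set V) ⊆ Set.range ι) :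
    IsAffine K.subscheme ∧ IsAffineHom (K.subschemeι ≫ j) := by
  let l : Z ⟶ K.subscheme := IsClosedImmersion.lift K.subschemeι ι (by rwa [K.ker_subschemeι])
  have hl : l ≫ K.subschemeι = ι := IsClosedImmersion.lift_fac _ _ _
  haveI : IsClosedImmersion (l ≫ K.subschemeι) := by rw [hl]; infer_instance
  haveI : IsClosedImmersion l := IsClosedImmersion.of_comp l K.subschemeι
  haveI : Surjective l := ⟨fun x => by
    obtain ⟨z, hz⟩ := hsupp (K.range_subschemeι ▸ Set.mem_range_self x : K.subschemeι x ∈ _)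
    refine ⟨z, K.subschemeι.isEmbedding.injective ?_⟩
    rw [← Scheme.Hom.comp_apply, hl, hz]⟩
  refine ⟨Lim.Thickening.isAffine_of_surjective l, ⟨fun W hW => ?_⟩⟩
  let O : K.subscheme.Opens := (K.subschemeι ≫ j) ⁻¹ᵁ W
  haveI : IsAffine (l ⁻¹ᵁ O : Scheme.{u}) := by
    have := hW.preimage (ι ≫ j)
    rw [← hl, Category.assoc, Scheme.Hom.comp_preimage] at this
    exact this
  haveI : IsClosedImmersion (l ∣_ O) := MorphismProperty.of_isPullback (isPullback_morphismRestrict l O).flip ‹_›
  haveI : Surjective (l ∣_ O) := MorphismProperty.of_isPullback (isPullback_morphismRestrict l O).flip ‹_›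
  exact Lim.Thickening.isAffine_of_surjective (l ∣_ O)

/-- Vanishing of a hom on affine opens. -/
theorem app_eq_zero {M : V.Modules} {O : V.Opens} (s : Γ(M, O))
    (h : ∀ U : V.affineOpens, ∀ hU : U.1 ≤ O, QCoh.Localizing.res M hU s = 0) : s = 0 := by
  refine Modules.Support.eq_zero_of_germ_eq_zero s fun x hx _ => ?_
  obtain ⟨U, hU, hxU, hle⟩ := exists_isAffineOpen_mem_and_subset (U := O) hx
  rw [← M.presheaf.germ_res_apply (homOfLE (hle : U ≤ O)) x hxU s]
  exact (congrArg _ (h ⟨U, hU⟩ hle)).trans (map_zero _)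

/-- The direct image of a module supported in an affine piece is acyclic. -/
theorem subsingleton_HH_piece [CompactSpace X] [QuasiSeparatedSpace X] [CompactSpace V]
    [QuasiSeparatedSpace V] (j : V ⟶ X) [QuasiCompact j] [QuasiSeparated j]
    (ι : Z ⟶ V) [IsClosedImmersion ι] [IsAffine Z] [IsAffineHom (ι ≫ j)]
    (hcomp : IsCompact (Set.range ι)ᶜ) (M : V.Modules) [M.IsQuasicoherent]
    (hM : CohB1.support M ⊆ Set.range ι) (p : ℕ) :
    Subsingleton (Coh.HH X ((Scheme.Modules.pushforward j).obj M) (p + 1)) := by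
  obtain ⟨J, hJ, hJS⟩ := exists_fg_support ⟨_, ι.isClosedEmbedding.isClosed_range⟩ hcomp
  replace hJS : (J.support : Set V) = Set.range ι := hJS
  obtain ⟨N, hN⟩ := exists_pow_le (I := ι.ker) hJ (by
    rw [Scheme.Hom.support_ker, hJS]
    exact (ι.isClosedEmbedding.isClosed_range.closure_eq).subset)
  let K : ℕ → V.IdealSheafData := fun m => J ^ (m + N + 1)
  have hKsupp : ∀ m, ((K m).support : Set V) ⊆ Set.range ι := fun m => by
    rw [Scheme.IdealSheafData.support_pow _ _ (Nat.succ_ne_zero _), hJS]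
  have hT := fun m => affine_thickening j ι (K m) (fun U => hN U _ (by omega)) (hKsupp m)
  have htor := fun m => Torsion.exists_torsion (K m) (Torsion.isFG_pow hJ _) M
  choose G e hG he hrange using htor
  haveI := he
  haveI := hG
  have hmono : ∀ (U : V.affineOpens) (a b : ℕ), a ≤ b → (K b).ideal U ≤ (K a).ideal U := fun U a b h => by
    simp only [K, Scheme.IdealSheafData.ideal_pow, Pi.pow_apply]
    exact Ideal.pow_le_pow_right (by omega)
  have hπ : ∀ (b : ℕ) (U : V.Opens) (y : Γ((Scheme.Modules.pushforward (K b).subschemeι).obj (G b), U)),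
      (cokernel.π (e b)).app U ((e b).app U y) = 0 := fun b U y =>
    congr($(cokernel.condition (e b)).app U y)
  have hzero : ∀ a b, a ≤ b → e a ≫ cokernel.π (e b) = 0 := fun a b h => by
    refine Scheme.Modules.hom_ext _ _ fun O => ?_
    ext y
    refine app_eq_zero _ fun U hU => ?_
    show QCoh.Localizing.res _ hU ((cokernel.π (e b)).app O ((e a).app O y)) = 0
    rw [QCoh.Localizing.res_app, QCoh.Localizing.res_app]
    obtain ⟨y', hy'⟩ := (hrange b U _).2 fun r hr =>
      (hrange a U ((e a).app U.1 (QCoh.Localizing.res _ hU y))).1 ⟨_, rfl⟩ r (hmono U a b h hr)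
    rw [← hy']
    exact hπ b U.1 y'
  let P := Scheme.Modules.pushforward j
  let t : ∀ a b, a ≤ b → (P.obj ((Scheme.Modules.pushforward (K a).subschemeι).obj (G a)) ⟶
      P.obj ((Scheme.Modules.pushforward (K b).subschemeι).obj (G b))) :=
    fun a b h => P.map (Abelian.monoLift (e b) (e a) (hzero a b h))
  haveI : P.IsRightAdjoint := (Scheme.Modules.pullbackPushforwardAdjunction j).isRightAdjoint
  haveI : ∀ m, Mono (P.map (e m)) := fun m => inferInstance
  haveI : (P.obj M).IsQuasicoherent := QCoh.Pushforward.isQCoh_pushforward j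
  have hq : ∀ m, (P.obj ((Scheme.Modules.pushforward (K m).subschemeι).obj (G m))).IsQuasicoherent :=
    fun m =>
      haveI := QCoh.Pushforward.isQCoh_pushforward (K m).subschemeι (M := G m)
      QCoh.Pushforward.isQCoh_pushforward j
  refine Colim.subsingleton_HH (P.obj M) _ hq (fun m => P.map (e m)) t
    (fun a b h => (P.map_comp _ _).symm.trans (congrArg P.map (Abelian.monoLift_comp (e b) (e a) _)))
    (fun W hW s => ?_) (fun m q => ?_) p
  · obtain ⟨T, hTfin, hcov⟩ := isCompact_and_isOpen_iff_finite_and_eq_biUnion_affineOpens.mp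
      (⟨QuasiCompact.isCompact_preimage (f := j) W W.2 hW.isCompact, (j ⁻¹ᵁ W).2⟩ :
        IsCompact ((j ⁻¹ᵁ W : V.Opens) : Set V) ∧ IsOpen ((j ⁻¹ᵁ W : V.Opens) : Set V))
    have hle : ∀ U ∈ T, U.1 ≤ j ⁻¹ᵁ W := fun U hU x hx => hcov.symm.subset (Set.mem_biUnion hU hx)
    let s' : Γ(M, j ⁻¹ᵁ W) := s
    have hloc : ∀ U : T, ∃ m : ℕ, ∀ r ∈ (J ^ m).ideal U.1, r • QCoh.Localizing.res M (hle U.1 U.2) s' = 0 :=
      fun U => Torsion.exists_pow_smul J hJ M (by rw [hJS]; exact hM) U.1 _
    choose k hk using hloc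
    haveI := hTfin.fintype
    let m := Finset.univ.sup k
    refine ⟨m, ?_⟩
    have hs : (cokernel.π (e m)).app (j ⁻¹ᵁ W) s' = 0 := by
      refine Modules.Support.eq_zero_of_germ_eq_zero _ fun x hx _ => ?_
      obtain ⟨U, hU, hxU⟩ := Set.mem_iUnion₂.mp (hcov.subset hx)
      rw [← (cokernel (e m)).presheaf.germ_res_apply (homOfLE (hle U hU)) x hxU _]
      refine (congrArg _ ?_).trans (map_zero _)
      show QCoh.Localizing.res _ (hle U hU) ((cokernel.π (e m)).app _ s') = 0
      rw [QCoh.Localizing.res_app]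
      obtain ⟨y', hy'⟩ := (hrange m U (QCoh.Localizing.res M (hle U hU) s')).2 fun r hr => by
        refine hk ⟨U, hU⟩ r ?_
        revert hr
        simp only [K, Scheme.IdealSheafData.ideal_pow, Pi.pow_apply]
        exact fun hr => Ideal.pow_le_pow_right
          (((Finset.le_sup (f := k) (Finset.mem_univ ⟨U, hU⟩)).trans le_self_add).trans
            (Nat.le_succ _)) hr
      rw [← hy']
      exact hπ m U.1 y'
    let φ := (DerivedOX.FlatGen.genHomEquiv (j ⁻¹ᵁ W) M).symm s'
    have hφ : φ ≫ cokernel.π (e m) = 0 := by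
      refine (DerivedOX.FlatGen.genHomEquiv (j ⁻¹ᵁ W) _).injective ?_
      refine (DerivedOX.PullbackStalk.genHomEquiv_comp _ _ _).trans ?_
      refine ((congrArg _ ((DerivedOX.FlatGen.genHomEquiv _ M).apply_symm_apply s')).trans hs).trans ?_
      exact ((DerivedOX.PullbackStalk.genHomEquiv_comp (j ⁻¹ᵁ W)
        (0 : DerivedOX.FlatGen.gen (j ⁻¹ᵁ W) ⟶ M) (0 : M ⟶ cokernel (e m))).trans rfl).symm.trans
        (congrArg _ (comp_zero))
    refine ⟨DerivedOX.FlatGen.genHomEquiv (j ⁻¹ᵁ W) _ (Abelian.monoLift (e m) φ hφ), ?_⟩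
    refine (DerivedOX.PullbackStalk.genHomEquiv_comp (j ⁻¹ᵁ W) _ (e m)).symm.trans ?_
    rw [Abelian.monoLift_comp]
    exact (DerivedOX.FlatGen.genHomEquiv _ M).apply_symm_apply s'
  · haveI := (hT m).1
    haveI := (hT m).2
    haveI : Subsingleton (Coh.HH (K m).subscheme (G m) (q + 1)) :=
      @Equiv.subsingleton _ _ (ZarCoh.Compare.hTop (Coh.toAb (G m)) (q + 1)).toEquiv
        (ZarCoh.Affine.HU_subsingleton (G m) (isAffineOpen_top (K m).subscheme) q)
    exact (ZarCoh.Morph.affineEquiv ((K m).subschemeι ≫ j) (G m) (q + 1)).toEquiv.subsingleton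

/-- The middle term of a short exact sequence of modules. -/
theorem subsingleton_mid {S : ShortComplex X.Modules} (hS : S.ShortExact) (p : ℕ)
    (h1 : Subsingleton (Coh.HH X S.X₁ p)) (h3 : Subsingleton (Coh.HH X S.X₃ p)) :
    Subsingleton (Coh.HH X S.X₂ p) := by
  refine subsingleton_of_forall_eq 0 fun z => ?_
  obtain ⟨y, hy⟩ := (Curves.LES.postcomp_exact₂ (Curves.LES.cst X)
    (Curves.LES.shortExact_abSES hS) p z).1 (@Subsingleton.elim _ h3 _ _)
  exact hy.symm.trans ((congrArg _ (@Subsingleton.elim _ h1 y 0)).trans (map_zero _))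

/-- The first term of a short exact sequence of modules. -/
theorem subsingleton_fst {S : ShortComplex X.Modules} (hS : S.ShortExact) (p : ℕ)
    (h3 : Subsingleton (Coh.HH X S.X₃ p)) (h2 : Subsingleton (Coh.HH X S.X₂ (p + 1))) :
    Subsingleton (Coh.HH X S.X₁ (p + 1)) := by
  refine subsingleton_of_forall_eq 0 fun z => ?_
  obtain ⟨y, hy⟩ := (Curves.LES.postcomp_exact₁ (Curves.LES.cst X)
    (Curves.LES.shortExact_abSES hS) p (p + 1) rfl z).1 (@Subsingleton.elim _ h2 _ _)
  exact hy.symm.trans ((congrArg _ (@Subsingleton.elim _ h3 y 0)).trans (map_zero _))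

end

end Groth.Agent.Lib.AffStrat36.Main
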