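import Groth.Agent.Lib.CohDelta.MVRes
import Groth.Agent.Lib.ZarCoh.Induction
import Groth.Agent.Lib.ZarCoh.Affine

/-!
# Cohomology of a quasi-coherent union
-/

set_option autoImplicit false
set_option linter.style.haveILetI false

universe u

open CategoryTheory CategoryTheory.Limits TopologicalSpace AlgebraicGeometry CategoryTheory.Abelian
open Groth.Agent.Lib.ZarCoh Groth.Agent.Lib.ZarCoh.Basic
open Groth.Agent.Lib (Cech.MV.δ)

namespace Groth.Agent.Lib.AffStrat36.Colim

noncomputable section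

section Top

variable {X : TopCat.{u}}

/-- The map on cohomology over an open. -/
def mp {F G : CohTop.Ab X} (φ : F ⟶ G) (n : ℕ) (U : Opens X) :
    CohTop.HU F n U →+ CohTop.HU G n U :=
  (Ext.mk₀ φ).postcomp (Zs.obj U) (add_zero n)

lemma mp_comp {F G H : CohTop.Ab X} (φ : F ⟶ G) (ψ : G ⟶ H) (n : ℕ) (U : Opens X)
    (x : CohTop.HU F n U) : mp ψ n U (mp φ n U x) = mp (φ ≫ ψ) n U x := by
  exact (Ext.comp_assoc (x : Ext.{u} (Zs.obj U) F n) (Ext.mk₀ φ) (Ext.mk₀ ψ) (add_zero n) (zero_add 0)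
    (by omega)).trans (congrArg (fun w => (x : Ext.{u} (Zs.obj U) F n).comp w (add_zero n))
      (Ext.mk₀_comp_mk₀ φ ψ))

lemma res_res (F : CohTop.Ab X) (n : ℕ) {U V W : Opens X} (h : V ≤ U) (h' : W ≤ V)
    (x : CohTop.HU F n U) : CohTop.res F n h' (CohTop.res F n h x) = CohTop.res F n (h'.trans h) x :=
  ConcreteCategory.congr_hom ((Sheaf.cohomologyPresheaf.{u} F n).map_comp (homOfLE h).op (homOfLE h').op).symm x

lemma res_mp {F G : CohTop.Ab X} (φ : F ⟶ G) (n : ℕ) {U V : Opens X} (h : V ≤ U)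
    (x : CohTop.HU F n U) : CohTop.res G n h (mp φ n U x) = mp φ n V (CohTop.res F n h x) :=
  rs_comp n (add_zero n) h (x : Ext.{u} (Zs.obj U) F n) (Ext.mk₀ φ)

lemma δ_mp {F G : CohTop.Ab X} (φ : F ⟶ G) (U V : Opens X) (n : ℕ) (w : CohTop.HU F n (U ⊓ V)) :
    Cech.MV.δ G U V n (n + 1) rfl (mp φ n _ w) = mp φ (n + 1) _ (Cech.MV.δ F U V n (n + 1) rfl w) :=
  CohDelta.MVRes.δ_comp U V n w φ

lemma mp_injective_zero {F G : CohTop.Ab X} (φ : F ⟶ G) [Mono φ] (U : Opens X) :
    Function.Injective (mp φ 0 U) := by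
  rw [injective_iff_map_eq_zero]
  intro x hx
  obtain ⟨g, rfl⟩ := (Ext.mk₀_bijective _ _).2 x
  have h1 : Ext.mk₀.{u} (g ≫ φ) = 0 := (Ext.mk₀_comp_mk₀ g φ).symm.trans hx
  rw [Ext.mk₀_eq_zero_iff] at h1
  rw [(cancel_mono φ).1 (h1.trans zero_comp.symm), Ext.mk₀_zero]
  rfl

variable {F : CohTop.Ab X} (G : ℕ → CohTop.Ab X) (e : ∀ m, G m ⟶ F)

/-- Every class comes from a stage. -/
def Surj (U : Opens X) : Prop :=
  ∀ (n : ℕ) (z : CohTop.HU F n U), ∃ m y, mp (e m) n U y = z

/-- A class vanishing in the union vanishes at a later stage. -/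
def Inj (t : ∀ a b, a ≤ b → (G a ⟶ G b)) (U : Opens X) : Prop :=
  ∀ (n m : ℕ) (y : CohTop.HU (G m) n U), mp (e m) n U y = 0 →
    ∃ (b : ℕ) (h : m ≤ b), mp (t m b h) n U y = 0

variable {G e} [∀ m, Mono (e m)] (t : ∀ a b, a ≤ b → (G a ⟶ G b))
  (ht : ∀ a b h, t a b h ≫ e b = e a)

include ht

omit [∀ m, Mono (e m)] in
lemma mp_e_t {a b : ℕ} (h : a ≤ b) (n : ℕ) (U : Opens X) (y : CohTop.HU (G a) n U) :
    mp (e b) n U (mp (t a b h) n U y) = mp (e a) n U y := by
  rw [mp_comp, ht]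

lemma t_comp {a b c : ℕ} (h : a ≤ b) (h' : b ≤ c) (n : ℕ) (U : Opens X) (y : CohTop.HU (G a) n U) :
    mp (t b c h') n U (mp (t a b h) n U y) = mp (t a c (h.trans h')) n U y := by
  rw [mp_comp]
  congr 2
  rw [← cancel_mono (e c), Category.assoc, ht, ht, ht]

lemma surj_sup {U V : Opens X} (hU : Surj G e U) (hV : Surj G e V) (hI : Inj G e t (U ⊓ V))
    (hS : Surj G e (U ⊓ V)) : Surj G e (U ⊔ V) := by
  intro n z
  obtain ⟨a, x, hx⟩ := hU n (CohTop.res F n le_sup_left z)
  obtain ⟨b, y, hy⟩ := hV n (CohTop.res F n le_sup_right z)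
  let m := max a b
  let x' := mp (t a m (le_max_left _ _)) n U x
  let y' := mp (t b m (le_max_right _ _)) n V y
  have hd : mp (e m) n _ (CohTop.res (G m) n inf_le_left x' - CohTop.res (G m) n inf_le_right y') = 0 := by
    rw [map_sub, ← res_mp, ← res_mp, mp_e_t t ht, mp_e_t t ht, hx, hy, sub_eq_zero,
      res_res, res_res]
  obtain ⟨c, hmc, hc⟩ := hI n m _ hd
  rw [map_sub, ← res_mp, ← res_mp, sub_eq_zero] at hc
  obtain ⟨z', hz1, hz2⟩ := Cech.MV.exists_res_eq (G c) U V n _ _ hc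
  have hl : CohTop.res F n le_sup_left (z - mp (e c) n _ z') = 0 := by
    rw [map_sub, res_mp, hz1, mp_e_t t ht, mp_e_t t ht, hx, sub_self]
  have hr : CohTop.res F n le_sup_right (z - mp (e c) n _ z') = 0 := by
    rw [map_sub, res_mp, hz2, mp_e_t t ht, mp_e_t t ht, hy, sub_self]
  cases n with
  | zero =>
    exact ⟨c, z', (sub_eq_zero.1 (CohDelta.MVRes.eq_zero_of_res_eq_zero le_rfl le_sup_left
      le_sup_right _ hl hr)).symm⟩
  | succ k =>
    obtain ⟨w, hw⟩ := Cech.MV.exists_δ_eq F U V k _ hl hr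
    obtain ⟨l, w', rfl⟩ := hS k w
    refine ⟨max c l, mp (t c _ (le_max_left _ _)) (k + 1) _ z' +
      Cech.MV.δ (G (max c l)) U V k (k + 1) rfl (mp (t l _ (le_max_right _ _)) k _ w'), ?_⟩
    rw [map_add, mp_e_t t ht, ← δ_mp, mp_e_t t ht, hw, add_sub_cancel]

lemma inj_sup {U V : Opens X} (hU : Inj G e t U) (hV : Inj G e t V) (hI : Inj G e t (U ⊓ V))
    (hSU : Surj G e U) (hSV : Surj G e V) : Inj G e t (U ⊔ V) := by
  intro n m z hz
  cases n with
  | zero => exact ⟨m, le_rfl, by rw [mp_injective_zero (e m) _ (hz.trans (map_zero _).symm), map_zero]⟩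
  | succ k =>
    obtain ⟨a, hma, ha⟩ := hU (k + 1) m (CohTop.res (G m) (k + 1) le_sup_left z)
      (by rw [← res_mp, hz, map_zero])
    obtain ⟨b, hmb, hb⟩ := hV (k + 1) m (CohTop.res (G m) (k + 1) le_sup_right z)
      (by rw [← res_mp, hz, map_zero])
    let c := max a b
    let z' := mp (t m c (hma.trans (le_max_left _ _))) (k + 1) _ z
    have hl : CohTop.res (G c) (k + 1) le_sup_left z' = 0 := by
      rw [res_mp, ← t_comp t ht hma (le_max_left a b), ha, map_zero]
    have hr : CohTop.res (G c) (k + 1) le_sup_right z' = 0 := by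
      rw [res_mp, ← t_comp t ht hmb (le_max_right a b), hb, map_zero]
    obtain ⟨w, hw⟩ := Cech.MV.exists_δ_eq (G c) U V k z' hl hr
    have h0 : Cech.MV.δ F U V k (k + 1) rfl (mp (e c) k _ w) = 0 := by
      rw [δ_mp, hw, mp_e_t t ht, hz]
    obtain ⟨x, y, hxy⟩ := Cech.MV.exists_sub_eq F U V k _ h0
    obtain ⟨i, x', rfl⟩ := hSU k x
    obtain ⟨j, y', rfl⟩ := hSV k y
    let l := max c (max i j)
    have hci : i ≤ l := (le_max_left _ _).trans (le_max_right _ _)
    have hcj : j ≤ l := (le_max_right _ _).trans (le_max_right _ _)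
    have hd : mp (e l) k _ (mp (t c l (le_max_left _ _)) k _ w -
        (CohTop.res (G l) k inf_le_left (mp (t i l hci) k U x') -
          CohTop.res (G l) k inf_le_right (mp (t j l hcj) k V y'))) = 0 := by
      rw [map_sub, map_sub, ← res_mp, ← res_mp, mp_e_t t ht, mp_e_t t ht, mp_e_t t ht, hxy, sub_self]
    obtain ⟨r, hlr, hr'⟩ := hI k l _ hd
    refine ⟨r, (hma.trans (le_max_left a b)).trans ((le_max_left c _).trans hlr), ?_⟩
    have e1 : mp (t m r ((hma.trans (le_max_left a b)).trans ((le_max_left c _).trans hlr))) (k + 1) _ z =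
        mp (t c r ((le_max_left c _).trans hlr)) (k + 1) _ z' :=
      (t_comp t ht _ _ (k + 1) _ z).symm
    rw [e1, ← hw, ← δ_mp]
    rw [map_sub, map_sub, sub_eq_zero, t_comp t ht, ← res_mp, ← res_mp] at hr'
    rw [hr']
    exact Cech.MV.δ_sub (G r) U V k _ _

end Top

/-- The underlying map of abelian sheaves. -/
abbrev abMap {X : Scheme.{u}} {M N : X.Modules} (φ : M ⟶ N) : Coh.toAb M ⟶ Coh.toAb N :=
  (SheafOfModules.toSheaf X.ringCatSheaf).map φ

/-- On a quasi-compact quasi-separated scheme a quasi-coherent union of quasi-coherent submodules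
with vanishing higher cohomology has vanishing higher cohomology. -/
theorem subsingleton_HH {X : Scheme.{u}} [CompactSpace X] [QuasiSeparatedSpace X] (F : X.Modules)
    [F.IsQuasicoherent] (G : ℕ → X.Modules) (hG : ∀ m, (G m).IsQuasicoherent) (e : ∀ m, G m ⟶ F)
    [hm : ∀ m, Mono (e m)] (t : ∀ a b, a ≤ b → (G a ⟶ G b)) (ht : ∀ a b h, t a b h ≫ e b = e a)
    (hex : ∀ W : X.Opens, IsAffineOpen W → ∀ s : Γ(F, W), ∃ m y, (e m).app W y = s)
    (hvan : ∀ m p, Subsingleton (Coh.HH X (G m) (p + 1))) (p : ℕ) :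
    Subsingleton (Coh.HH X F (p + 1)) := by
  let G' := fun m => Coh.toAb (G m)
  let e' := fun m => abMap (e m)
  let t' := fun a b h => abMap (t a b h)
  have ht' : ∀ a b h, t' a b h ≫ e' b = e' a := fun a b h => by
    refine ((SheafOfModules.toSheaf X.ringCatSheaf).map_comp (t a b h) (e b)).symm.trans ?_
    exact congrArg (SheafOfModules.toSheaf X.ringCatSheaf).map (ht a b h)
  haveI : ∀ m, Mono (e' m) := fun m =>
    haveI : PreservesFiniteLimits (SheafOfModules.toSheaf X.ringCatSheaf) := inferInstance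
    @Functor.map_mono _ _ _ _ (SheafOfModules.toSheaf X.ringCatSheaf) _ _ _ (e m) (hm m)
  have key : ∀ S : X.Opens, IsCompact (S : Set X) → Surj G' e' S ∧ Inj G' e' t' S := by
    intro S hS
    refine Induction.induction (⊤ : X.Opens) (isQuasiSeparated_univ : IsQuasiSeparated (Set.univ : Set X))
      (fun S => Surj G' e' S ∧ Inj G' e' t' S) ?_ ?_ S le_top hS
    · intro U _ hU
      refine ⟨fun n z => ?_, fun n m y hy => ?_⟩
      · cases n with
        | zero =>
          obtain ⟨g, rfl⟩ := (Ext.mk₀_bijective _ _).2 z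
          obtain ⟨m, y, hy⟩ := hex U hU (homEquiv U (Coh.toAb F) g)
          refine ⟨m, Ext.mk₀.{u} ((homEquiv U (G' m)).symm y), ?_⟩
          refine (Ext.mk₀_comp_mk₀ _ _).trans (congrArg _ ((homEquiv U (Coh.toAb F)).injective ?_))
          refine (homEquiv_comp _ _).trans ?_
          refine Eq.trans ?_ hy
          exact congrArg _ ((homEquiv U (G' m)).apply_symm_apply y)
        | succ k =>
          haveI := Affine.HU_subsingleton F hU k
          exact ⟨0, 0, Subsingleton.elim _ _⟩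
      · refine ⟨m, le_rfl, ?_⟩
        cases n with
        | zero => rw [mp_injective_zero (e' m) _ (hy.trans (map_zero _).symm), map_zero]
        | succ k =>
          haveI := hG m
          haveI := Affine.HU_subsingleton (G m) hU k
          exact Subsingleton.elim _ _
    · intro U V _ _ _ _ hU hV hI
      exact ⟨surj_sup t' ht' hU.1 hV.1 hI.2 hI.1, inj_sup t' ht' hU.2 hV.2 hI.2 hU.1 hV.1⟩
  refine subsingleton_of_forall_eq 0 fun z => ?_
  obtain ⟨m, y, hy⟩ := (key ⊤ CompactSpace.isCompact_univ).1 (p + 1) (Compare.hTop (Coh.toAb F) (p + 1) z)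
  haveI : Subsingleton (CohTop.HU (G' m) (p + 1) (⊤ : X.Opens)) :=
    haveI := hvan m p
    (Compare.hTop (Coh.toAb (G m)) (p + 1)).toEquiv.symm.subsingleton
  refine (Compare.hTop (Coh.toAb F) (p + 1)).injective ?_
  rw [map_zero, ← hy, Subsingleton.elim y 0]
  exact map_zero _

end

end Groth.Agent.Lib.AffStrat36.Colim
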