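import Groth.Agent.Lib.AffStrat36.Main

/-!
# Induction on the strata
-/

set_option autoImplicit false
set_option linter.style.haveILetI false

universe u

open CategoryTheory CategoryTheory.Limits AlgebraicGeometry TopologicalSpace Opposite

namespace Groth.Agent.Lib.AffStrat36.Strat

open Groth.Agent.Lib

noncomputable section

variable {X : Scheme.{u}} {n : ℕ}

/-- Vanishing for modules supported in the first `k` strata. -/
theorem subsingleton_of_support (s : X → Fin (n + 1))
    (hs : ∀ i : Fin (n + 1), IsClosed {x : X | s x ≤ i})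
    (hstr : ∀ i : Fin (n + 1), ∃ (Z : Scheme.{u}) (ι : Z ⟶ X),
      IsImmersion ι ∧ IsAffine Z ∧ IsAffineHom ι ∧ Set.range ι = {x : X | s x = i})
    (k : ℕ) : k ≤ n + 1 → ∀ F : X.Modules, F.IsQuasicoherent →
      CohB1.support F ⊆ {x : X | (s x : ℕ) < k} → ∀ p : ℕ, k ≤ p → Subsingleton (Coh.HH X F p) := by
  choose Z ι hι hZ haff hr using hstr
  have hcompact : ∀ (P : ℕ → Prop) (O : X.Opens), IsCompact (O : Set X) →
      IsCompact ((O : Set X) ∩ {x | P (s x)}) := by
    intro P O hO
    have e : (O : Set X) ∩ {x | P (s x)} =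
        ⋃ i ∈ {i : Fin (n + 1) | P i}, ι i '' ((ι i ⁻¹ᵁ O : (Z i).Opens) : Set (Z i)) := by
      ext x
      simp only [Set.mem_inter_iff, Set.mem_setOf_eq, Set.mem_iUnion, Set.mem_image, exists_prop]
      constructor
      · rintro ⟨hxO, hxP⟩
        obtain ⟨z, hz⟩ : x ∈ Set.range (ι (s x)) := by rw [hr]; rfl
        exact ⟨_, hxP, z, (show ι (s x) z ∈ O from hz.symm ▸ hxO), hz⟩
      · rintro ⟨i, hi, z, hz, rfl⟩
        exact ⟨hz, by rwa [show s (ι i z) = i from (hr i).subset ⟨z, rfl⟩]⟩
    rw [e]
    exact (Set.toFinite _).isCompact_biUnion fun i _ =>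
      ((haff i).isAffine_preimage |> fun _ => QuasiCompact.isCompact_preimage (f := ι i) O O.2 hO).image
        (ι i).continuous
  haveI : CompactSpace X := ⟨by
    have e : (Set.univ : Set X) = ⋃ i, Set.range (ι i) :=
      (Set.eq_univ_of_forall fun x => Set.mem_iUnion.2 ⟨s x, by rw [hr]; rfl⟩).symm
    rw [e]
    exact isCompact_iUnion fun i =>
      haveI := hZ i
      isCompact_range (ι i).continuous⟩
  haveI : QuasiSeparatedSpace X := by
    refine ⟨fun A B hA hAc hB hBc => ?_⟩
    have e : A ∩ B = ⋃ i, ι i '' ((ι i ⁻¹' A) ∩ (ι i ⁻¹' B)) := by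
      ext x
      simp only [Set.mem_inter_iff, Set.mem_iUnion, Set.mem_image, Set.mem_preimage]
      constructor
      · rintro ⟨hxA, hxB⟩
        obtain ⟨z, hz⟩ : x ∈ Set.range (ι (s x)) := by rw [hr]; rfl
        exact ⟨_, z, ⟨hz.symm ▸ hxA, hz.symm ▸ hxB⟩, hz⟩
      · rintro ⟨i, z, hz, rfl⟩
        exact hz
    rw [e]
    refine isCompact_iUnion fun i => IsCompact.image ?_ (ι i).continuous
    haveI := hZ i
    haveI := haff i
    exact QuasiSeparatedSpace.inter_isCompact _ _ (hA.preimage (ι i).continuous)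
      (QuasiCompact.isCompact_preimage (f := ι i) A hA hAc) (hB.preimage (ι i).continuous)
      (QuasiCompact.isCompact_preimage (f := ι i) B hB hBc)
  induction k with
  | zero =>
    intro _ F _ hsupp p _
    have hz : IsZero F := Modules.Support.support_eq_empty_iff.1
      (Set.subset_empty_iff.1 fun x hx => absurd (hsupp hx) (Nat.not_lt_zero _))
    refine subsingleton_of_forall_eq 0 fun z => ?_
    have h0 : (SheafOfModules.toSheaf X.ringCatSheaf).map (𝟙 F) = 0 := by
      rw [hz.eq_of_src (𝟙 F) 0]
      exact Functor.map_zero _ _ _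
    have h0' := ((SheafOfModules.toSheaf X.ringCatSheaf).map_id F).symm.trans h0
    exact ((Abelian.Ext.comp_mk₀_id z).symm.trans (congrArg (fun φ => z.comp (Abelian.Ext.mk₀ φ) (add_zero p)) h0')).trans
      (by simp)
  | succ k ih =>
    intro hk F hF hsupp p hp
    replace ih := ih (by omega)
    let i : Fin (n + 1) := ⟨k, by omega⟩
    have hclosed : IsClosed {x : X | (s x : ℕ) < k} := by
      rcases Nat.eq_zero_or_pos k with rfl | hk0
      · simp
      · have e : {x : X | (s x : ℕ) < k} = {x | s x ≤ ⟨k - 1, by omega⟩} := by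
          ext x
          simp only [Set.mem_setOf_eq, Fin.le_def]
          omega
        rw [e]; exact hs _
    let V : X.Opens := ⟨{x : X | (s x : ℕ) < k}ᶜ, hclosed.isOpen_compl⟩
    haveI : CompactSpace (V : Scheme.{u}) := isCompact_iff_compactSpace.1 (by
      have := hcompact (fun m => ¬ m < k) ⊤ CompactSpace.isCompact_univ
      rwa [Opens.coe_top, Set.univ_inter] at this)
    haveI : QuasiSeparatedSpace (V : Scheme.{u}) := V.ι.isOpenEmbedding.quasiSeparatedSpace
    haveI : QuasiCompact V.ι := by
      constructor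
      intro O hO hOc
      rw [V.ι.isOpenEmbedding.isCompact_iff, Set.image_preimage_eq_inter_range, Scheme.Opens.range_ι]
      exact hcompact (fun m => ¬ m < k) ⟨O, hO⟩ hOc
    haveI := hZ i
    haveI := haff i
    haveI := hι i
    have hrange : Set.range (ι i) ⊆ Set.range V.ι := by
      rw [hr, Scheme.Opens.range_ι]
      intro x hx
      show ¬ (s x : ℕ) < k
      rw [show s x = i from hx]
      exact lt_irrefl k
    let ι' : Z i ⟶ (V : Scheme.{u}) := IsOpenImmersion.lift V.ι (ι i) hrange
    have hfac : ι' ≫ V.ι = ι i := IsOpenImmersion.lift_fac _ _ _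
    haveI : IsImmersion (ι' ≫ V.ι) := by rw [hfac]; infer_instance
    haveI : IsAffineHom (ι' ≫ V.ι) := by rw [hfac]; infer_instance
    haveI : IsImmersion ι' := IsImmersion.of_comp ι' V.ι
    have hrι : Set.range ι' = V.ι ⁻¹' {x : X | (s x : ℕ) < k + 1} := by
      ext v
      constructor
      · rintro ⟨z, rfl⟩
        show (s (V.ι (ι' z)) : ℕ) < k + 1
        rw [← Scheme.Hom.comp_apply, hfac, show s (ι i z) = i from (hr i).subset ⟨z, rfl⟩]
        exact Nat.lt_succ_self k
      · intro hv
        have h1 : ¬ (s (V.ι v) : ℕ) < k := by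
          have : V.ι v ∈ Set.range V.ι := ⟨v, rfl⟩
          rwa [Scheme.Opens.range_ι] at this
        have h2 : (s (V.ι v) : ℕ) < k + 1 := hv
        obtain ⟨z, hz⟩ : V.ι v ∈ Set.range (ι i) := by
          rw [hr]
          exact Fin.ext (show (s (V.ι v) : ℕ) = k by omega)
        refine ⟨z, V.ι.isOpenEmbedding.injective ?_⟩
        rw [← Scheme.Hom.comp_apply, hfac, hz]
    have hc1 : IsClosed {x : X | (s x : ℕ) < k + 1} := by
      have e : {x : X | (s x : ℕ) < k + 1} = {x | s x ≤ i} := by
        ext x
        simp only [Set.mem_setOf_eq, Fin.le_def, i]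
        omega
      rw [e]; exact hs _
    haveI : IsClosedImmersion ι' :=
      .of_isPreimmersion _ (hrι ▸ hc1.preimage V.ι.continuous)
    have hcomp : IsCompact (Set.range ι')ᶜ := by
      rw [V.ι.isOpenEmbedding.isCompact_iff, hrι, ← Set.preimage_compl,
        Set.image_preimage_eq_inter_range, Scheme.Opens.range_ι]
      have := hcompact (fun m => ¬ m < k + 1) ⊤ CompactSpace.isCompact_univ
      rw [Opens.coe_top, Set.univ_inter] at this
      refine (show ({x : X | ¬ (s x : ℕ) < k + 1} : Set X) =
        {x : X | (s x : ℕ) < k + 1}ᶜ ∩ (V : Set X) from ?_) ▸ this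
      ext x
      exact ⟨fun h => ⟨h, fun (h' : (s x : ℕ) < k) => h (Nat.lt_succ_of_lt h')⟩, fun h => h.1⟩
    let R := Scheme.Modules.restrictFunctor V.ι
    let adj := Scheme.Modules.restrictAdjunction V.ι
    let M : (V : Scheme.{u}).Modules := F.restrict V.ι
    haveI : M.IsQuasicoherent := inferInstance
    have hM : CohB1.support M ⊆ Set.range ι' := by
      rw [Modules.Support.support_restrict, hrι]
      exact Set.preimage_mono hsupp
    let P := (Scheme.Modules.pushforward V.ι).obj M
    haveI : P.IsQuasicoherent := QCoh.Pushforward.isQCoh_pushforward V.ι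
    have hP : ∀ q, Subsingleton (Coh.HH X P (q + 1)) :=
      Main.subsingleton_HH_piece V.ι ι' hcomp M hM
    have hPsupp : CohB1.support P ⊆ {x : X | (s x : ℕ) < k + 1} := by
      intro x hx
      by_contra hxA
      refine hx (subsingleton_of_forall_eq 0 fun g => ?_)
      obtain ⟨O, hxO, a, rfl⟩ := P.presheaf.germ_exist g
      let O' : X.Opens := O ⊓ ⟨_, hc1.isOpen_compl⟩
      rw [← P.presheaf.germ_res_apply (homOfLE (inf_le_left : O' ≤ O)) x ⟨hxO, hxA⟩ a]
      refine (congrArg _ ?_).trans (map_zero _)
      refine Modules.Support.eq_zero_of_germ_eq_zero (M := M) (U := V.ι ⁻¹ᵁ O')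
        (show Γ(M, V.ι ⁻¹ᵁ O') from _) fun v hv hvM => absurd ?_ (hv.2)
      rw [Modules.Support.support_restrict] at hvM
      exact hsupp hvM
    let η : F ⟶ P := adj.unit.app F
    haveI : IsIso (R.map η) := by
      have e : IsSplitMono (R.map η) := IsSplitMono.mk' ⟨_, adj.left_triangle_components F⟩
      have h : R.map η = inv (adj.counit.app (R.obj F)) := by
        refine IsIso.eq_inv_of_inv_hom_id ?_
        exact adj.left_triangle_components F
      rw [h]; infer_instance
    haveI : (kernel η).IsQuasicoherent := QCoh.Closure.isQCoh_kernel η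
    haveI : (cokernel η).IsQuasicoherent := QCoh.Closure.isQCoh_cokernel η
    have hlow : ∀ G : X.Modules, CohB1.support G ⊆ {x : X | (s x : ℕ) < k + 1} →
        IsZero (R.obj G) → CohB1.support G ⊆ {x : X | (s x : ℕ) < k} := by
      intro G _ hG x hx
      by_contra hxk
      have hz := Modules.Support.support_eq_empty_iff.2 hG
      rw [show R.obj G = G.restrict V.ι from rfl, Modules.Support.support_restrict] at hz
      exact (Set.eq_empty_iff_forall_notMem.1 hz ⟨x, hxk⟩) hx
    have hK : IsZero (R.obj (kernel η)) :=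
      IsZero.of_iso (isZero_kernel_of_mono (R.map η)) (PreservesKernel.iso R η)
    have hQ : IsZero (R.obj (cokernel η)) :=
      IsZero.of_iso (isZero_cokernel_of_epi (R.map η)) (PreservesCokernel.iso R η)
    have hKv : Subsingleton (Coh.HH X (kernel η) p) :=
      ih _ inferInstance (hlow _ ((Modules.Support.support_subset_of_mono (kernel.ι η)).trans hsupp) hK) p
        (by omega)
    obtain ⟨q, rfl⟩ : ∃ q, p = q + 1 := ⟨p - 1, by omega⟩
    have hQv : Subsingleton (Coh.HH X (cokernel η) q) :=
      ih _ inferInstance (hlow _ ((Modules.Support.support_subset_of_epi (cokernel.π η)).trans hPsupp) hQ) q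
        (by omega)
    let S₂ : ShortComplex X.Modules :=
      ShortComplex.mk (Abelian.image.ι η) (cokernel.π η) (kernel.condition _)
    have hS₂ : S₂.ShortExact :=
      { exact := S₂.exact_of_f_is_kernel (kernelIsKernel (cokernel.π η)) }
    haveI hI : Subsingleton (Coh.HH X (Abelian.image η) (q + 1)) :=
      Main.subsingleton_fst hS₂ q hQv (hP q)
    let S₁ : ShortComplex X.Modules :=
      ShortComplex.mk (kernel.ι η) (Abelian.factorThruImage η)
        (by rw [← cancel_mono (Abelian.image.ι η)]; simp)
    have hS₁ : S₁.ShortExact :=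
      { exact := S₁.exact_of_f_is_kernel (KernelFork.IsLimit.ofι _ _
          (fun {W} g hg => kernel.lift η g (by rw [← Abelian.image.fac η, ← Category.assoc, hg, zero_comp]))
          (fun g hg => kernel.lift_ι _ _ _) (fun g hg m hm => by
            rw [← cancel_mono (kernel.ι η), kernel.lift_ι]; exact hm)) }
    exact Main.subsingleton_mid hS₁ (q + 1) hKv hI

end

end Groth.Agent.Lib.AffStrat36.Strat
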